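import Mathlib

/-!
# An elimination trick for twisted relations

If `s` twists a commutative ring `R ⊆ E` by an automorphism `φ` with an orbit of length `n` on some prime,
then `1 + s + ⋯ + s^(n-1) ≠ 0`.
-/

namespace CfsgLib.ModuleTrick

open Finset

variable {E : Type*} [Ring E] {R : Type*} [CommRing R]

theorem pow_mul_twist (ι : R →+* E) (φ : R →+* R) (s : E) (hs : ∀ x, s * ι x = ι (φ x) * s)
    (i : ℕ) (x : R) : s ^ i * ι x = ι (φ^[i] x) * s ^ i := by
  induction i with
  | zero => simp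
  | succ i ih =>
    rw [pow_succ', mul_assoc, ih, ← mul_assoc, hs, mul_assoc, Function.iterate_succ_apply']

/-- Eliminating the indices of `J` from the relation `∑ s^i = 0`. -/
theorem twist_elim (ι : R →+* E) (φ : R →+* R) (s : E) (hs : ∀ x, s * ι x = ι (φ x) * s) (n : ℕ)
    (hrel : ∑ i ∈ range n, s ^ i = 0) (a : ℕ → R) (J : Finset ℕ) :
    ∑ i ∈ range n, ι (∏ j ∈ J, (φ^[i] (a j) - φ^[j] (a j))) * s ^ i = 0 := by
  induction J using Finset.induction with
  | empty => simpa using hrel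
  | @insert j J hj ih =>
    have h1 : (∑ i ∈ range n, ι (∏ k ∈ J, (φ^[i] (a k) - φ^[k] (a k))) * s ^ i) * ι (a j)
        - ι (φ^[j] (a j)) * (∑ i ∈ range n, ι (∏ k ∈ J, (φ^[i] (a k) - φ^[k] (a k))) * s ^ i) = 0 := by
      rw [ih]; simp
    rw [Finset.sum_mul, Finset.mul_sum, ← Finset.sum_sub_distrib] at h1
    rw [← h1]
    refine Finset.sum_congr rfl fun i _ => ?_
    rw [mul_assoc (ι _) (s ^ i), pow_mul_twist ι φ s hs, ← mul_assoc, ← mul_assoc, ← sub_mul,
      ← map_mul, ← map_mul, ← map_sub, Finset.prod_insert hj]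
    congr 2
    ring

/-- A regular orbit of length a prime power `p^(m+1)` forces `∑ s^i ≠ 0`. -/
theorem sum_pow_ne_zero (p m : ℕ) (hp : p.Prime) (ι : R →+* E) (hι : Function.Injective ι)
    (φ : R →+* R) (s : E) (hs : ∀ x, s * ι x = ι (φ x) * s)
    (hn : ∀ x, φ^[p ^ (m + 1)] x = x) (hred : ∀ x : R, IsNilpotent x → x = 0)
    (hmove : ∃ a, φ^[p ^ m] a ≠ a) : ∑ i ∈ range (p ^ (m + 1)), s ^ i ≠ 0 := by
  intro hrel
  obtain ⟨a₀, ha₀⟩ := hmove
  set d := φ^[p ^ m] a₀ - a₀ with hd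
  have hnil : ¬ IsNilpotent d := fun h => ha₀ (sub_eq_zero.mp (hred d h))
  obtain ⟨P, hP, hdP⟩ : ∃ P : Ideal R, P.IsPrime ∧ d ∉ P := by
    by_contra h
    push Not at h
    exact hnil (mem_nilradical.mp (by rw [nilradical_eq_sInf]; exact Ideal.mem_sInf.mpr fun {J} hJ => h J hJ))
  have key : ∀ j, 1 ≤ j → j < p ^ (m + 1) → ∃ x, x - φ^[j] x ∉ P := by
    intro j hj1 hj2
    by_contra h
    push Not at h
    have hmul : ∀ k x, x - φ^[j * k] x ∈ P := by
      intro k
      induction k with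
      | zero => intro x; simp
      | succ k ih =>
        intro x
        have h1 := P.add_mem (ih x) (h (φ^[j * k] x))
        rw [← Function.iterate_add_apply, show j + j * k = j * (k + 1) by ring,
          sub_add_sub_cancel] at h1
        exact h1
    obtain ⟨e, u, hu, rfl⟩ := Nat.exists_eq_pow_mul_and_not_dvd (by omega : j ≠ 0) p hp.ne_one
    have he : e ≤ m := by
      by_contra hlt
      have h1 : p ^ (m + 1) ≤ p ^ e := Nat.pow_le_pow_right hp.pos (by omega)
      have h2 : 1 ≤ u := Nat.one_le_iff_ne_zero.mpr (by rintro rfl; simp at hu)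
      nlinarith
    have hcop : u.Coprime p := (hp.coprime_iff_not_dvd.mpr hu).symm
    obtain ⟨v, hv⟩ := Nat.exists_mul_mod_eq_one_of_coprime hcop hp.one_lt
    have hjk : p ^ e * u * (p ^ (m - e) * v) = p ^ m + p ^ (m + 1) * (u * v / p) := by
      calc p ^ e * u * (p ^ (m - e) * v) = p ^ (e + (m - e)) * (u * v) := by rw [pow_add]; ring
        _ = p ^ m * (u * v % p + p * (u * v / p)) := by
          rw [Nat.mod_add_div, Nat.add_sub_cancel' he]
        _ = _ := by rw [hv.2]; ring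
    have h3 := hmul (p ^ (m - e) * v) a₀
    rw [hjk, Function.iterate_add_apply, Function.iterate_mul,
      Function.iterate_fixed (hn a₀)] at h3
    exact hdP (by rw [hd, ← neg_sub]; exact P.neg_mem h3)
  choose b hb using key
  let a : ℕ → R := fun j => if h : 1 ≤ j ∧ j < p ^ (m + 1) then b j h.1 h.2 else 0
  have hpos : 0 < p ^ (m + 1) := Nat.pos_of_ne_zero (pow_ne_zero _ hp.ne_zero)
  have h := twist_elim ι φ s hs _ hrel a (Finset.Ico 1 (p ^ (m + 1)))
  rw [Finset.sum_eq_single 0 ?_ (fun h0 => absurd (Finset.mem_range.mpr hpos) h0)] at h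
  · rw [pow_zero, mul_one, map_eq_zero_iff ι hι] at h
    have hmem : (∏ j ∈ Finset.Ico 1 (p ^ (m + 1)), (φ^[0] (a j) - φ^[j] (a j))) ∈ P := h ▸ P.zero_mem
    obtain ⟨j, hj, hjP⟩ := hP.prod_mem_iff.mp hmem
    rw [Finset.mem_Ico] at hj
    simp only [a, dif_pos hj] at hjP
    exact hb j hj.1 hj.2 hjP
  · intro i hi hi0
    rw [Finset.prod_eq_zero (i := i) (by simp only [Finset.mem_range] at hi; simp [Finset.mem_Ico]; omega)
      (sub_self _), map_zero, zero_mul]

end CfsgLib.ModuleTrick
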