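import Mathlib

/-!
# Subgroups invariant under an automorphism; the conjugation representation on an abelian normal subgroup
-/

namespace CfsgLib.ModuleTrick

variable {G : Type*} [Group G]

theorem map_eq_of_invariant [Finite G] {σ : MulAut G} {N : Subgroup G} (h : ∀ x ∈ N, σ x ∈ N) :
    N.map σ.toMonoidHom = N := by
  refine Subgroup.eq_of_le_of_card_ge ?_
    (by rw [Subgroup.card_map_of_injective (MulEquiv.injective σ)])
  rintro _ ⟨x, hx, rfl⟩
  exact h x hx

/-- In a nontrivial finite solvable group there is an invariant normal elementary abelian subgroup which is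
minimal among invariant normal subgroups, inside any given invariant normal nontrivial subgroup. -/
theorem exists_minimal_invariant [Finite G] [Group.IsSolvable G] (σ : MulAut G) (K : Subgroup G)
    (hK : K.Normal) (hK1 : K ≠ ⊥) (hKσ : ∀ x ∈ K, σ x ∈ K) :
    ∃ (V : Subgroup G) (p : ℕ), p.Prime ∧ V ≤ K ∧ V.Normal ∧ V ≠ ⊥ ∧ (∀ x ∈ V, σ x ∈ V) ∧
      (∀ x ∈ V, ∀ y ∈ V, x * y = y * x) ∧ (∀ x ∈ V, x ^ p = 1) ∧
      (∀ W : Subgroup G, W.Normal → W ≤ V → (∀ x ∈ W, σ x ∈ W) → W = ⊥ ∨ W = V) := by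
  obtain ⟨V, hVK, ⟨hVn, hV1, hVσ⟩, hVmin⟩ := Finite.exists_le_minimal
    (p := fun L : Subgroup G => L.Normal ∧ L ≠ ⊥ ∧ ∀ x ∈ L, σ x ∈ L) (a := K) ⟨hK, hK1, hKσ⟩
  have hmin : ∀ W : Subgroup G, W.Normal → W ≤ V → (∀ x ∈ W, σ x ∈ W) → W = ⊥ ∨ W = V := by
    intro W hW hle hWσ
    rcases eq_or_ne W ⊥ with e | e
    · exact Or.inl e
    · exact Or.inr (le_antisymm hle (hVmin ⟨hW, e, hWσ⟩ hle))
  have hlt := Group.IsSolvable.commutator_lt_of_ne_bot hV1
  have hab : ⁅V, V⁆ = ⊥ := by
    refine (hmin _ inferInstance hlt.le ?_).resolve_right hlt.ne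
    intro x hx
    have h1 : σ x ∈ (⁅V, V⁆).map σ.toMonoidHom := ⟨x, hx, rfl⟩
    rwa [Subgroup.map_commutator, map_eq_of_invariant hVσ] at h1
  have hcomm : ∀ x ∈ V, ∀ y ∈ V, x * y = y * x := fun x hx y hy => by
    have h1 := Subgroup.commutator_mem_commutator hx hy
    rw [hab, Subgroup.mem_bot] at h1
    exact commutatorElement_eq_one_iff_mul_comm.mp h1
  have hne : Nontrivial V := V.nontrivial_iff_ne_bot.mpr hV1
  obtain ⟨p, hp, hdvd⟩ := Nat.exists_prime_and_dvd
    (show Nat.card V ≠ 1 by have := Finite.one_lt_card_iff_nontrivial.mpr hne; omega)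
  haveI := Fact.mk hp
  let W : Subgroup G :=
    { carrier := {x | x ∈ V ∧ x ^ p = 1}
      one_mem' := ⟨V.one_mem, one_pow p⟩
      mul_mem' := fun {a b} ha hb => ⟨V.mul_mem ha.1 hb.1, by
        rw [(show Commute a b from hcomm a ha.1 b hb.1).mul_pow, ha.2, hb.2, mul_one]⟩
      inv_mem' := fun {a} ha => ⟨V.inv_mem ha.1, by rw [inv_pow, ha.2, inv_one]⟩ }
  have hWn : W.Normal := ⟨fun x hx g => ⟨hVn.conj_mem x hx.1 g, by rw [conj_pow, hx.2]; simp⟩⟩
  obtain ⟨z, hz⟩ := exists_prime_orderOf_dvd_card' p hdvd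
  have hW1 : W ≠ ⊥ := by
    intro e
    have h1 : (z : G) ∈ W := ⟨z.2, by
      rw [← Subgroup.coe_pow, ← hz, pow_orderOf_eq_one, Subgroup.coe_one]⟩
    rw [e, Subgroup.mem_bot] at h1
    exact hp.ne_one (by rw [← hz, show z = 1 from Subtype.ext h1, orderOf_one])
  have hWV : W = V := (hmin W hWn (fun x hx => hx.1) (fun x hx =>
    ⟨hVσ x hx.1, by rw [← map_pow, hx.2, map_one]⟩)).resolve_left hW1
  exact ⟨V, p, hp, hVK, hVn, hV1, hVσ, hcomm, fun x hx => (hWV.ge hx).2, hmin⟩

open scoped IsMulCommutative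

/-- Conjugation on an abelian normal subgroup as a monoid map into additive endomorphisms. -/
noncomputable def conjEnd (V : Subgroup G) [V.Normal] [IsMulCommutative V] :
    G →* AddMonoid.End (Additive V) where
  toFun g := MonoidHom.toAdditive (MulAut.conjNormal (H := V) g).toMonoidHom
  map_one' := by
    ext v
    simp only [map_one]
    rfl
  map_mul' g h := by
    ext v
    simp only [map_mul]
    rfl

theorem conjEnd_apply (V : Subgroup G) [V.Normal] [IsMulCommutative V] (g : G) (v : Additive V) :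
    ((Additive.toMul (conjEnd V g v) : V) : G) = g * (Additive.toMul v : V) * g⁻¹ :=
  MulAut.conjNormal_apply g (Additive.toMul v)

theorem conjEnd_ker (V : Subgroup G) [V.Normal] [IsMulCommutative V] :
    (conjEnd V).ker = Subgroup.centralizer (V : Set G) := by
  ext g
  rw [MonoidHom.mem_ker]
  constructor
  · intro h x hx
    have h1 := conjEnd_apply V g (Additive.ofMul ⟨x, hx⟩)
    rw [h] at h1
    exact (eq_mul_inv_iff_mul_eq.mp h1)
  · intro h
    refine AddMonoidHom.ext fun v => Additive.toMul.injective (Subtype.ext ?_)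
    refine (conjEnd_apply V g v).trans ?_
    rw [← h _ (Additive.toMul v).2, mul_inv_cancel_right]
    rfl

/-- The action of `G ⧸ C_G(V)` on an abelian normal subgroup `V`. -/
noncomputable def conjEndQuot (V : Subgroup G) [V.Normal] [IsMulCommutative V] :
    G ⧸ Subgroup.centralizer (V : Set G) →* AddMonoid.End (Additive V) :=
  QuotientGroup.lift (Subgroup.centralizer (V : Set G)) (conjEnd V) (conjEnd_ker V).ge

theorem conjEndQuot_mk (V : Subgroup G) [V.Normal] [IsMulCommutative V] (g : G) :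
    conjEndQuot V (g : G ⧸ Subgroup.centralizer (V : Set G)) = conjEnd V g := rfl

theorem conjEndQuot_injective (V : Subgroup G) [V.Normal] [IsMulCommutative V] :
    Function.Injective (conjEndQuot V) := by
  intro a b
  induction a using QuotientGroup.induction_on with
  | H x =>
    induction b using QuotientGroup.induction_on with
    | H y =>
      intro h
      rw [conjEndQuot_mk, conjEndQuot_mk] at h
      rw [QuotientGroup.eq, ← conjEnd_ker V, MonoidHom.mem_ker, map_mul, ← h, ← map_mul,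
        inv_mul_cancel, map_one]

end CfsgLib.ModuleTrick
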