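import Mathlib

/-!
# Subrings generated by commuting units of order prime to the characteristic are reduced
-/

namespace CfsgLib.ModuleTrick

theorem pow_pow_eq_of_mem_closure {E : Type*} [Ring E] (p : ℕ) [hp : Fact p.Prime] (hE : (p : E) = 0)
    (T : Set E) (hcomm : ∀ x ∈ T, ∀ y ∈ T, x * y = y * x) (k : ℕ)
    (hfix : ∀ x ∈ T, x ^ p ^ k = x) {x : E} (hx : x ∈ Subring.closure T) : x ^ p ^ k = x := by
  rcases subsingleton_or_nontrivial E with h | h
  · exact Subsingleton.elim _ _
  haveI : CharP E p := (CharP.charP_iff_prime_eq_zero hp.out).mpr hE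
  have hc : IsMulCommutative (Subring.closure T) := Subring.isMulCommutative_closure hcomm
  induction hx using Subring.closure_induction with
  | mem x hx => exact hfix x hx
  | zero => exact zero_pow (pow_ne_zero _ hp.out.ne_zero)
  | one => exact one_pow _
  | add x y hx hy ihx ihy =>
    rw [add_pow_char_pow_of_commute p k (show Commute x y from setLike_mul_comm hx hy), ihx, ihy]
  | neg x hx ih =>
    have h1 := add_pow_char_pow_of_commute p k ((Commute.refl x).neg_left)
    rw [neg_add_cancel, zero_pow (pow_ne_zero _ hp.out.ne_zero), ih] at h1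
    exact eq_neg_of_add_eq_zero_left h1.symm
  | mul x y hx hy ihx ihy =>
    rw [(show Commute x y from setLike_mul_comm hx hy).mul_pow, ihx, ihy]

/-- Commuting elements with `x^N = 1`, `N` prime to the characteristic, generate a reduced ring. -/
theorem eq_zero_of_nilpotent_mem_closure {E : Type*} [Ring E] (p : ℕ) [hp : Fact p.Prime]
    (hE : (p : E) = 0) (T : Set E) (hcomm : ∀ x ∈ T, ∀ y ∈ T, x * y = y * x) (N : ℕ)
    (hN : N.Coprime p) (hT : ∀ x ∈ T, x ^ N = 1) {x : E} (hx : x ∈ Subring.closure T)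
    (hnil : IsNilpotent x) : x = 0 := by
  have hN0 : 0 < N := Nat.pos_of_ne_zero (by rintro rfl; simp [hp.out.ne_one] at hN)
  have hk : 0 < N.totient := Nat.totient_pos.mpr hN0
  have hmod : p ^ N.totient ≡ 1 [MOD N] := Nat.ModEq.pow_totient hN.symm
  have hfix : ∀ y ∈ T, y ^ p ^ N.totient = y := by
    intro y hy
    rw [pow_eq_pow_mod (p ^ N.totient) (hT y hy), hmod, ← pow_eq_pow_mod 1 (hT y hy), pow_one]
  have hq : 2 ≤ p ^ N.totient := le_trans hp.out.two_le (Nat.le_self_pow hk.ne' p)
  have h1 := pow_pow_eq_of_mem_closure p hE T hcomm N.totient hfix hx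
  obtain ⟨n, hn⟩ := hnil
  have h2 : ∀ j : ℕ, x ^ (p ^ N.totient) ^ j = x := by
    intro j
    induction j with
    | zero => simp
    | succ j ih => rw [pow_succ, pow_mul, ih, h1]
  rw [← h2 n]
  exact pow_eq_zero_of_le (Nat.lt_pow_self (by omega : 1 < p ^ N.totient)).le hn

end CfsgLib.ModuleTrick
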