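import Mathlib
import Cfsg.Agent.Lib.ModuleTrick.Dedekind
import Cfsg.Agent.Lib.ModuleTrick.Reduced
import Cfsg.Agent.Lib.ModuleTrick.Invariant

/-!
# Fixed-point-free automorphisms of order dividing 4 acting on a faithful irreducible module
-/

namespace CfsgLib.ModuleTrick

/-- A `p`-subgroup of a group acting faithfully and irreducibly (with `σ`) is trivial. -/
theorem eq_bot_of_pGroup_of_irreducible {A : Type*} [AddCommGroup A] [Finite A] [Nontrivial A] {p : ℕ}
    [Fact p.Prime] (hA : ∀ a : A, p • a = 0) {H : Type*} [Group H] [Finite H] (σ : MulAut H)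
    (ρ : H →* AddMonoid.End A) (hρ : Function.Injective ρ) (s : AddMonoid.End A)
    (hcomm : ∀ h, s * ρ h = ρ (σ h) * s)
    (hirr : ∀ B : AddSubgroup A, (∀ h, ∀ b ∈ B, ρ h b ∈ B) → (∀ b ∈ B, s b ∈ B) → B = ⊥ ∨ B = ⊤)
    (Z : Subgroup H) [Z.Normal] (hZσ : ∀ x ∈ Z, σ x ∈ Z) (hZ : IsPGroup p Z) : Z = ⊥ := by
  let B : AddSubgroup A :=
    { carrier := {a | ∀ z ∈ Z, ρ z a = a}
      zero_mem' := fun z _ => map_zero _
      add_mem' := fun {a b} ha hb z hz => by
        show ρ z (a + b) = a + b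
        rw [map_add, ha z hz, hb z hz]
      neg_mem' := fun {a} ha z hz => by
        show ρ z (-a) = -a
        rw [map_neg, ha z hz] }
  have hB1 : B ≠ ⊥ := by
    letI : MulAction Z A :=
      { smul := fun z a => ρ (z : H) a
        one_smul := fun a => by
          show ρ ((1 : Z) : H) a = a
          rw [Subgroup.coe_one, map_one]; rfl
        mul_smul := fun x y a => by
          show ρ ((x * y : Z) : H) a = ρ (x : H) (ρ (y : H) a)
          rw [Subgroup.coe_mul, map_mul]; rfl }
    obtain ⟨a₀, ha₀⟩ := exists_ne (0 : A)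
    have hdvd : p ∣ Nat.card A := by
      rw [← addOrderOf_eq_prime (hA a₀) ha₀]
      exact addOrderOf_dvd_natCard a₀
    obtain ⟨b, hb, hb0⟩ := hZ.exists_fixed_point_of_prime_dvd_card_of_fixed_point A hdvd
      (a := 0) (fun z => map_zero (ρ (z : H)))
    intro e
    apply hb0
    have hbB : b ∈ B := fun z hz => hb ⟨z, hz⟩
    rw [e, AddSubgroup.mem_bot] at hbB
    exact hbB.symm
  have hρmul : ∀ x y a, ρ (x * y) a = ρ x (ρ y a) := fun x y a => by rw [map_mul]; rfl
  have hBH : ∀ h, ∀ b ∈ B, ρ h b ∈ B := by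
    intro h b hb z hz
    have hz' : h⁻¹ * z * h ∈ Z := by
      simpa using Subgroup.Normal.conj_mem inferInstance z hz h⁻¹
    rw [← hρmul, show z * h = h * (h⁻¹ * z * h) by simp [mul_assoc], hρmul, hb _ hz']
  have hBs : ∀ b ∈ B, s b ∈ B := by
    intro b hb z hz
    obtain ⟨w, hw, hwz⟩ : z ∈ Z.map σ.toMonoidHom := (map_eq_of_invariant hZσ).ge hz
    have h1 := DFunLike.congr_fun (hcomm w) b
    rw [show z = σ w from hwz.symm]
    refine h1.symm.trans ?_
    show s (ρ w b) = s b
    rw [hb w hw]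
  have htop := (hirr B hBH hBs).resolve_left hB1
  rw [eq_bot_iff]
  intro z hz
  rw [Subgroup.mem_bot]
  apply hρ
  rw [map_one]
  refine AddMonoidHom.ext fun a => ?_
  exact (htop.ge (AddSubgroup.mem_top a)) z hz

/-- The core of the theorem on fixed-point-free automorphisms of order 4. -/
theorem commute_of_order_four {A : Type*} [AddCommGroup A] [Finite A] [Nontrivial A] {p : ℕ}
    [Fact p.Prime] (hA : ∀ a : A, p • a = 0) {H : Type*} [Group H] [Finite H] [Group.IsSolvable H]
    (σ : MulAut H) (hσ : σ ^ 4 = 1) (hfpf : ∀ h : H, σ h = h → h = 1)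
    (ρ : H →* AddMonoid.End A) (hρ : Function.Injective ρ) (s : AddMonoid.End A) (hs : s ^ 4 = 1)
    (hsfix : ∀ a, s a = a → a = 0) (hcomm : ∀ h, s * ρ h = ρ (σ h) * s)
    (hirr : ∀ B : AddSubgroup A, (∀ h, ∀ b ∈ B, ρ h b ∈ B) → (∀ b ∈ B, s b ∈ B) → B = ⊥ ∨ B = ⊤) :
    ∀ a b : H, a * b = b * a := by
  rcases subsingleton_or_nontrivial H with hH | hH
  · exact fun a b => Subsingleton.elim _ _
  obtain ⟨Z, r, hr, -, hZn, hZ1, hZσ, hZc, hZe, -⟩ :=
    exists_minimal_invariant σ ⊤ inferInstance top_ne_bot (fun _ _ => Subgroup.mem_top _)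
  have hrp : r ≠ p := by
    rintro rfl
    exact hZ1 (eq_bot_of_pGroup_of_irreducible hA σ ρ hρ s hcomm hirr Z hZσ
      (fun z => ⟨1, by rw [pow_one]; exact Subtype.ext (hZe z z.2)⟩))
  -- the sum relation
  have hrel : ∑ i ∈ Finset.range 4, s ^ i = 0 := by
    have hfix : s * ∑ i ∈ Finset.range 4, s ^ i = ∑ i ∈ Finset.range 4, s ^ i := by
      have h4 : s * (s * (s * s)) = 1 := by rw [← hs]; noncomm_ring
      simp only [Finset.sum_range_succ, Finset.sum_range_zero, zero_add, pow_zero, pow_one]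
      rw [pow_two, pow_succ', pow_two]
      rw [mul_add, mul_add, mul_add, mul_one, h4]
      abel
    refine AddMonoidHom.ext fun a => hsfix _ ?_
    exact DFunLike.congr_fun hfix a
  have hrho : ∀ x y, x * y = y * x → ρ x * ρ y = ρ y * ρ x := fun x y h => by
    rw [← map_mul, h, map_mul]
  -- the squared automorphism is trivial on Z
  have hE : (p : AddMonoid.End A) = 0 := AddMonoidHom.ext fun a => by
    exact (AddMonoid.End.natCast_apply p a).trans (hA a)
  have htau : ∀ z ∈ Z, σ (σ z) = z := by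
    by_contra hcon
    push Not at hcon
    obtain ⟨z₀, hz₀, hz₀'⟩ := hcon
    let T : Set (AddMonoid.End A) := ρ '' (Z : Set H)
    have hT : ∀ x ∈ T, ∀ y ∈ T, x * y = y * x := by
      rintro _ ⟨x, hx, rfl⟩ _ ⟨y, hy, rfl⟩
      exact hrho x y (hZc x hx y hy)
    have hTc : IsMulCommutative (Subring.closure T) := Subring.isMulCommutative_closure hT
    letI : CommRing (Subring.closure T) :=
      { (Subring.closure T).toRing with mul_comm := fun a b => isMulCommutative_iff.mp hTc a b }
    have hsu : IsUnit s := IsUnit.of_pow_eq_one hs (by norm_num)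
    obtain ⟨u, rfl⟩ := hsu
    have hmap : ∀ x ∈ Subring.closure T,
        (u : AddMonoid.End A) * x * ((u⁻¹ : (AddMonoid.End A)ˣ) : AddMonoid.End A) ∈ Subring.closure T := by
      intro x hx
      induction hx using Subring.closure_induction with
      | mem x hx =>
        obtain ⟨z, hz, rfl⟩ := hx
        rw [hcomm, Units.mul_inv_cancel_right]
        exact Subring.subset_closure ⟨σ z, hZσ z hz, rfl⟩
      | zero => simp
      | one => simp
      | add x y _ _ ihx ihy => rw [mul_add, add_mul]; exact add_mem ihx ihy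
      | neg x _ ih => rw [mul_neg, neg_mul]; exact neg_mem ih
      | mul x y _ _ ihx ihy =>
        convert mul_mem ihx ihy using 1
        simp [mul_assoc]
    let φ : Subring.closure T →+* Subring.closure T :=
      { toFun := fun x => ⟨_, hmap x x.2⟩
        map_one' := Subtype.ext (by simp)
        map_mul' := fun x y => Subtype.ext (by simp [mul_assoc])
        map_zero' := Subtype.ext (by simp)
        map_add' := fun x y => Subtype.ext (by simp [mul_add, add_mul]) }
    have hφ : ∀ x, (u : AddMonoid.End A) * (Subring.closure T).subtype x =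
        (Subring.closure T).subtype (φ x) * u := fun x => by simp [φ, mul_assoc]
    have hn : ∀ x, φ^[2 ^ (1 + 1)] x = x := fun x => by
      apply Subtype.ext
      have h1 := pow_mul_twist (Subring.closure T).subtype φ (u : AddMonoid.End A) hφ 4 x
      rw [hs, one_mul, mul_one] at h1
      exact h1.symm
    have hcop : r.Coprime p := (Nat.coprime_primes hr Fact.out).mpr hrp
    have hne := sum_pow_ne_zero (E := AddMonoid.End A) 2 1 Nat.prime_two (Subring.closure T).subtype
      Subtype.val_injective φ (u : AddMonoid.End A) hφ hn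
      (fun x hx => Subtype.ext (eq_zero_of_nilpotent_mem_closure p hE T hT r hcop
        (by rintro _ ⟨z, hz, rfl⟩; rw [← map_pow, hZe z hz, map_one]) x.2
        (hx.map (Subring.closure T).subtype)))
      ⟨⟨ρ z₀, Subring.subset_closure ⟨z₀, hz₀, rfl⟩⟩, fun h => hz₀' (hρ ?_)⟩
    · exact hne hrel
    · have h1 := pow_mul_twist (Subring.closure T).subtype φ (u : AddMonoid.End A) hφ 2
        ⟨ρ z₀, Subring.subset_closure ⟨z₀, hz₀, rfl⟩⟩
      rw [show φ^[2] ⟨ρ z₀, _⟩ = ⟨ρ z₀, _⟩ from h] at h1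
      simp only [Subring.subtype_apply] at h1
      rw [pow_two, mul_assoc, hcomm, ← mul_assoc, hcomm, mul_assoc] at h1
      exact ((u.isUnit.mul u.isUnit).mul_left_inj).mp h1
  have hinv : ∀ z ∈ Z, σ z = z⁻¹ := by
    intro z hz
    have h1 : σ (z * σ z) = z * σ z := by
      rw [map_mul, htau z hz]
      exact hZc _ (hZσ z hz) _ hz
    exact eq_inv_of_mul_eq_one_right (hfpf _ h1)
  have hcen : ∀ z ∈ Z, ∀ g : H, g * z = z * g := by
    intro z hz g
    obtain ⟨h, hh⟩ := MonoidHom.FixedPointFree.commutatorMap_surjective (φ := σ) hfpf g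
    rw [MonoidHom.commutatorMap_apply, div_eq_mul_inv] at hh
    subst hh
    -- `σ h * z * (σ h)⁻¹ = h * z * h⁻¹`
    have hc : ∀ k : H, ∀ w ∈ Z, σ k * w * (σ k)⁻¹ = k * w * k⁻¹ := by
      intro k w hw
      have h1 := hinv _ (hZn.conj_mem w⁻¹ (Z.inv_mem hw) k)
      rw [map_mul, map_mul, map_inv, map_inv, hinv w hw, inv_inv] at h1
      rw [h1]; simp [mul_assoc]
    have h2 := hc h ((σ h)⁻¹ * z * σ h) (by simpa using hZn.conj_mem z hz (σ h)⁻¹)
    have h3 : h * (σ h)⁻¹ * z = z * (h * (σ h)⁻¹) := by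
      have h4 : z = h * ((σ h)⁻¹ * z * σ h) * h⁻¹ := by
        rw [← h2]; simp [mul_assoc]
      calc h * (σ h)⁻¹ * z = (h * ((σ h)⁻¹ * z * σ h) * h⁻¹) * (h * (σ h)⁻¹) := by simp [mul_assoc]
        _ = z * (h * (σ h)⁻¹) := by rw [← h4]
    exact h3
  -- a nontrivial element of Z gives `s² = -1`
  obtain ⟨z, hz, hz1⟩ := Z.bot_or_exists_ne_one.resolve_left hZ1
  have hzz : z⁻¹ ≠ z := fun e => hz1 (hfpf z (by rw [hinv z hz, e]))
  let d : AddMonoid.End A := ρ z - ρ z⁻¹
  have hsd : s * ρ z = ρ z⁻¹ * s := by rw [hcomm, hinv z hz]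
  have hsd' : s * ρ z⁻¹ = ρ z * s := by rw [hcomm, map_inv, hinv z hz, inv_inv]
  have hdh : ∀ h, d * ρ h = ρ h * d := fun h => by
    simp only [d, sub_mul, mul_sub]
    rw [hrho z h (hcen z hz h).symm, hrho z⁻¹ h (hcen z⁻¹ (Z.inv_mem hz) h).symm]
  have hd2 : d * (1 + s * s) = 0 := by
    have h0 : (1 + s + s * s + s * s * s) = 0 := by
      rw [← hrel]; simp [Finset.sum_range_succ, pow_succ]
    have h1 : (1 + s + s * s + s * s * s) * ρ z - ρ z⁻¹ * (1 + s + s * s + s * s * s) = 0 := by
      rw [h0]; simp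
    rw [← h1]
    have e2 : s * s * ρ z = ρ z * (s * s) := by
      rw [mul_assoc, hsd, ← mul_assoc, hsd', mul_assoc]
    have e3 : s * s * s * ρ z = ρ z⁻¹ * (s * s * s) := by
      rw [mul_assoc (s * s), hsd, ← mul_assoc, mul_assoc s s (ρ z⁻¹), hsd', ← mul_assoc, hsd]
      simp only [mul_assoc]
    simp only [d, add_mul, one_mul, mul_add, mul_one, hsd, e2, e3, sub_mul]
    abel
  let B : AddSubgroup A := AddMonoidHom.ker (d : A →+ A)
  have hB : B = ⊥ := by
    refine (hirr B (fun h b hb => ?_) (fun b hb => ?_)).resolve_right (fun e => ?_)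
    · show d (ρ h b) = 0
      have := DFunLike.congr_fun (hdh h) b
      refine this.trans ?_
      show ρ h (d b) = 0
      rw [show d b = 0 from hb, map_zero]
    · show d (s b) = 0
      have h1 : d * s = -(s * d) := by
        simp only [d, sub_mul, mul_sub, hsd, hsd', neg_sub]
      refine (DFunLike.congr_fun h1 b).trans ?_
      show -(s (d b)) = 0
      rw [show d b = 0 from hb, map_zero, neg_zero]
    · apply hzz
      refine (hρ (sub_eq_zero.mp ?_)).symm
      exact AddMonoidHom.ext fun a => (e.ge (AddSubgroup.mem_top a) : d a = 0)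
  have hneg : s * s = -1 := by
    refine AddMonoidHom.ext fun a => ?_
    have h1 : a + s (s a) ∈ B := DFunLike.congr_fun hd2 a
    rw [hB, AddSubgroup.mem_bot] at h1
    exact eq_neg_of_add_eq_zero_right h1
  have hinvol : ∀ h, σ (σ h) = h := by
    intro h
    apply hρ
    have h1 : s * s * ρ h = ρ (σ (σ h)) * (s * s) := by
      rw [mul_assoc, hcomm, ← mul_assoc, hcomm, mul_assoc]
    rw [hneg, neg_one_mul, mul_neg_one, neg_inj] at h1
    exact h1.symm
  exact fun a b => MonoidHom.FixedPointFree.commute_all_of_involutive (φ := σ) hfpf hinvol a b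

end CfsgLib.ModuleTrick
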