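import Mathlib
import Cfsg.Agent.Lib.ModuleTrick.Invariant

/-!
# Automorphisms induced on quotients, and the action on a minimal invariant normal subgroup
-/

namespace CfsgLib.ModuleTrick

variable {G : Type*} [Group G]

/-- The automorphism induced on the quotient by an invariant normal subgroup. -/
noncomputable def quotientAut [Finite G] (σ : MulAut G) (N : Subgroup G) [N.Normal]
    (h : ∀ x ∈ N, σ x ∈ N) : MulAut (G ⧸ N) :=
  QuotientGroup.congr N N σ (map_eq_of_invariant h)

theorem quotientAut_mk [Finite G] (σ : MulAut G) (N : Subgroup G) [N.Normal]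
    (h : ∀ x ∈ N, σ x ∈ N) (g : G) : quotientAut σ N h (g : G ⧸ N) = ((σ g : G) : G ⧸ N) := rfl

theorem quotientAut_pow_mk [Finite G] (σ : MulAut G) (N : Subgroup G) [N.Normal]
    (h : ∀ x ∈ N, σ x ∈ N) (n : ℕ) (g : G) :
    (quotientAut σ N h ^ n) (g : G ⧸ N) = (((σ ^ n) g : G) : G ⧸ N) := by
  induction n generalizing g with
  | zero => rfl
  | succ n ih =>
    rw [pow_succ, MulAut.mul_apply, quotientAut_mk, ih, pow_succ, MulAut.mul_apply]

theorem quotientAut_pow_eq_one [Finite G] (σ : MulAut G) (N : Subgroup G) [N.Normal]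
    (h : ∀ x ∈ N, σ x ∈ N) {n : ℕ} (hn : σ ^ n = 1) : quotientAut σ N h ^ n = 1 := by
  refine MulEquiv.ext fun q => ?_
  induction q using QuotientGroup.induction_on with
  | H g => rw [quotientAut_pow_mk, hn]; rfl

/-- Fixed-point-freeness passes to the quotient by an invariant normal subgroup. -/
theorem quotientAut_fixedPointFree [Finite G] (σ : MulAut G) (N : Subgroup G) [N.Normal]
    (h : ∀ x ∈ N, σ x ∈ N) (hfpf : ∀ g : G, σ g = g → g = 1) :
    ∀ q : G ⧸ N, quotientAut σ N h q = q → q = 1 := by
  intro q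
  induction q using QuotientGroup.induction_on with
  | H g =>
    intro hq
    rw [quotientAut_mk] at hq
    have hmem : g * (σ g)⁻¹ ∈ N := by
      rw [← QuotientGroup.eq_one_iff, QuotientGroup.mk_mul, QuotientGroup.mk_inv, hq, mul_inv_cancel]
    let σN : N →* N :=
      { toFun := fun x => ⟨σ x, h x x.2⟩
        map_one' := Subtype.ext (map_one σ)
        map_mul' := fun x y => Subtype.ext (map_mul σ _ _) }
    have hN : MonoidHom.FixedPointFree σN := fun x hx =>
      Subtype.ext (hfpf x (congrArg Subtype.val hx))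
    obtain ⟨v, hv⟩ := hN.commutatorMap_surjective ⟨g * (σ g)⁻¹, hmem⟩
    have h3 : MonoidHom.commutatorMap σ (v : G) = MonoidHom.commutatorMap σ g := by
      have := congrArg Subtype.val hv
      simp only [MonoidHom.commutatorMap_apply, div_eq_mul_inv] at this ⊢
      exact this
    have h5 : (v : G) = g := MonoidHom.FixedPointFree.commutatorMap_injective (φ := σ) hfpf h3
    exact (QuotientGroup.eq_one_iff g).mpr (h5 ▸ v.2)

end CfsgLib.ModuleTrick
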